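import Groth.Prelude.Def_DerSch
import Groth.Agent.KFlatLib.Scheme.StalkCx
import Groth.Agent.H9Misc.DRingTorDevissage
import Mathlib.Algebra.Category.ModuleCat.ChangeOfRings

/-! The stalk complex relative to a base, on derived categories. -/

universe u

open CategoryTheory CategoryTheory.Limits AlgebraicGeometry

attribute [local instance] HasDerivedCategory.standard

namespace Groth.Agent.KSix54

variable {X Y : Scheme.{u}}

lemma preservesFiniteLimits_stalkOver (f : X ⟶ Y) (x : X) :
    PreservesFiniteLimits (DerSch.stalkOver f x) := inferInstance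

lemma preservesFiniteColimits_stalkOver (f : X ⟶ Y) (x : X) :
    PreservesFiniteColimits (DerSch.stalkOver f x) := inferInstance

/-- The stalk over the local ring of the base, on derived categories. -/
noncomputable def stalkD (f : X ⟶ Y) (x : X) :
    DCoh.D X ⥤ Dual.D (Y.presheaf.stalk (f.base x) : Type u) :=
  (DerSch.stalkOver f x).mapDerivedCategory

noncomputable def stalkDFactors (f : X ⟶ Y) (x : X) (F : CochainComplex X.Modules ℤ) :
    (stalkD f x).obj (DCoh.toD X F) ≅ DRing.toD ((DerSch.stalkCxOver f x).obj F) :=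
  (DerSch.stalkOver f x).mapDerivedCategoryFactors.app F

lemma torAmplitudeAt_iff (f : X ⟶ Y) (a b : ℤ) (F : CochainComplex X.Modules ℤ) (x : X) :
    DerSch.HasTorAmplitudeAt f a b F x ↔
      DRing.HasTorAmplitudeIn (Y.presheaf.stalk (f.base x)) a b ((stalkD f x).obj (DCoh.toD X F)) :=
  ⟨H9Misc.DRingTor.of_iso (stalkDFactors f x F).symm, H9Misc.DRingTor.of_iso (stalkDFactors f x F)⟩

lemma torAmplitudeAt_congr (f : X ⟶ Y) {a b : ℤ} {F G : CochainComplex X.Modules ℤ}
    (e : DCoh.toD X F ≅ DCoh.toD X G) {x : X} (h : DerSch.HasTorAmplitudeAt f a b F x) :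
    DerSch.HasTorAmplitudeAt f a b G x :=
  (torAmplitudeAt_iff f a b G x).2
    (H9Misc.DRingTor.of_iso ((stalkD f x).mapIso e) ((torAmplitudeAt_iff f a b F x).1 h))

lemma torAmplitude_congr (f : X ⟶ Y) {a b : ℤ} {F G : CochainComplex X.Modules ℤ}
    (e : DCoh.toD X F ≅ DCoh.toD X G) (h : DerSch.HasTorAmplitude f a b F) :
    DerSch.HasTorAmplitude f a b G := fun x => torAmplitudeAt_congr f e (h x)

lemma hasTorAmplitudeD_of (f : X ⟶ Y) {a b : ℤ} {F : CochainComplex X.Modules ℤ} {K : DCoh.D X}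
    (e : DCoh.toD X F ≅ K) (h : DerSch.HasTorAmplitude f a b F) :
    DerSch.HasTorAmplitudeD f a b K := fun _ ⟨e'⟩ => torAmplitude_congr f (e ≪≫ e'.symm) h

/-- Restriction of scalars along a ring map equal to the identity. -/
noncomputable def restrictScalarsIdIso {R : CommRingCat.{u}} (φ : R ⟶ R) (h : φ = 𝟙 R) :
    ModuleCat.restrictScalars.{u} φ.hom ≅ 𝟭 (ModuleCat.{u} R) :=
  ModuleCat.restrictScalarsId' φ.hom (by rw [h]; rfl)

/-- For the identity morphism the stalk over the base is the stalk. -/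
noncomputable def stalkOverIdIso (x : X) :
    DerSch.stalkOver (𝟙 X) x ≅ DerSch.stalkFunctor X x :=
  Functor.isoWhiskerLeft (DerSch.stalkFunctor X x)
    (restrictScalarsIdIso ((𝟙 X : X ⟶ X).stalkMap x) (Scheme.Hom.stalkMap_id X x)) ≪≫
    Functor.rightUnitor _

/-- The stalk complex relative to the identity is the stalk complex. -/
noncomputable def stalkCxOverIdIso (x : X) (F : CochainComplex X.Modules ℤ) :
    (DerSch.stalkCxOver (𝟙 X) x).obj F ≅ (KFlatLib.stalkCx x).obj F :=
  HomologicalComplex.Hom.isoOfComponents (fun i => (stalkOverIdIso x).app (F.X i))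
    fun i j _ => ((stalkOverIdIso x).hom.naturality (F.d i j)).symm

lemma torAmplitudeAt_id_iff (a b : ℤ) (F : CochainComplex X.Modules ℤ) (x : X) :
    DerSch.HasTorAmplitudeAt (𝟙 X) a b F x ↔ DRing.HasTorAmplitudeIn (X.presheaf.stalk x) a b
      (DRing.toD ((KFlatLib.stalkCx x).obj F)) :=
  ⟨H9Misc.DRingTor.of_iso (DerivedCategory.Q.mapIso (stalkCxOverIdIso x F)),
    H9Misc.DRingTor.of_iso (DerivedCategory.Q.mapIso (stalkCxOverIdIso x F)).symm⟩

end Groth.Agent.KSix54
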