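import Groth.Agent.KSix54.Basic
import Groth.Agent.KFlatLib.Scheme.Flatness
import Groth.Agent.H9Misc.DRingTor

/-! Tor amplitude relative to the identity is flat amplitude. -/

universe u

open CategoryTheory CategoryTheory.Limits AlgebraicGeometry

attribute [local instance] HasDerivedCategory.standard

namespace Groth.Agent.KSix54

variable {X : Scheme.{u}}

lemma torAmplitude_id_of_flatAmplitude {a b : ℤ} {F : CochainComplex X.Modules ℤ}
    (h : DCoh.HasFlatAmplitudeIn a b (DCoh.toD X F)) : DerSch.HasTorAmplitude (𝟙 X) a b F := by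
  obtain ⟨E, hz, hf, ⟨e⟩⟩ := h
  refine torAmplitude_congr _ e fun x => (torAmplitudeAt_id_iff a b E x).2 ?_
  exact ⟨(KFlatLib.stalkCx x).obj E, fun i hi => (DerSch.stalkFunctor X x).map_isZero (hz i hi),
    fun i => hf i x, ⟨Iso.refl _⟩⟩

lemma flatAmplitude_of_torAmplitude_id {a b : ℤ} (F : CochainComplex X.Modules ℤ)
    (h : DerSch.HasTorAmplitude (𝟙 X) a b F) : DCoh.HasFlatAmplitudeIn a b (DCoh.toD X F) := by
  have hzero : ∀ i, i < a ∨ b < i → IsZero (F.homology i) := fun i hi => by
    rw [← HomologicalComplex.exactAt_iff_isZero_homology]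
    refine (KFlatLib.exact_iff_stalk _).2 fun x => ?_
    obtain ⟨E, hz, -, ⟨e⟩⟩ := (torAmplitudeAt_id_iff a b F x).1 (h x)
    have hF : IsZero (((KFlatLib.stalkCx x).obj F).homology i) :=
      (ShortComplex.isZero_homology_of_isZero_X₂ (E.sc i) (hz i hi) :
        IsZero (E.homology i)).of_iso
        (((DerivedCategory.homologyFunctorFactors _ i).app _).symm ≪≫
          (DerivedCategory.homologyFunctor _ i).mapIso e.symm ≪≫
          (DerivedCategory.homologyFunctorFactors _ i).app _)
    exact (HomologicalComplex.exactAt_iff_isZero_homology _ _).2 hF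
  obtain ⟨P, ψ, hψ, hflat, hz⟩ :=
    (KFlatLib.flatCover X).exists_bounded_resolution F b (fun m hm => hzero m (Or.inr hm))
  haveI := hψ
  let e : DCoh.toD X P ≅ DCoh.toD X F :=
    @asIso _ _ _ _ (DerivedCategory.Q.map ψ) (KFlatLib.isIso_Q_map ψ hψ)
  have hP : DerSch.HasTorAmplitude (𝟙 X) a b P := torAmplitude_congr _ e.symm h
  have hop : FlatMod.IsFlat (P.opcycles a) := by
    refine KFlatLib.IsFlat.of_iso (IsColimit.coconePointUniqueUpToIso (cokernelIsCokernel _)
      (P.opcyclesIsCokernel (a - 1) a (by simp))) (fun x => ?_)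
    let Px := (KFlatLib.stalkCx x).obj P
    have hPx : ∀ n, Module.Flat (X.presheaf.stalk x) (Px.X n) := fun n => hflat n x
    have hKF : H9Misc.DRingLTensor.IsKF Px := H9Misc.DRingTor.isKF_of_flat hPx (b := b)
      fun n hn => (DerSch.stalkFunctor X x).map_isZero (hz n hn)
    have hvan := (H9Misc.DRingTor.iff_van hKF (Iso.refl _)).1 ((torAmplitudeAt_id_iff a b P x).1 (hP x))
    haveI := H9Misc.DRingTor.flat_opcycles (P := Px) hPx a fun M => hvan M (a - 1) (Or.inl (by omega))
    let k : cokernel (Px.d (a - 1) a) ≅ Px.opcycles a :=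
      IsColimit.coconePointUniqueUpToIso (cokernelIsCokernel _)
        (Px.opcyclesIsCokernel (a - 1) a (by simp))
    let k' : (DerSch.stalkFunctor X x).obj (cokernel (P.d (a - 1) a)) ≅ Px.opcycles a :=
      PreservesCokernel.iso (DerSch.stalkFunctor X x) (P.d (a - 1) a) ≪≫ k
    exact Module.Flat.of_linearEquiv k'.toLinearEquiv
  haveI : CochainComplex.IsGE P a := (CochainComplex.isGE_iff P a).2 fun i hi =>
    (HomologicalComplex.exactAt_iff_isZero_homology _ _).2
      ((hzero i (Or.inl hi)).of_iso (asIso (HomologicalComplex.homologyMap ψ i)))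
  haveI : QuasiIso (P.πTruncGE a) := inferInstance
  refine ⟨P.truncGE a, ?_, fun i => ?_, ⟨(@asIso _ _ _ _ (DerivedCategory.Q.map (P.πTruncGE a))
    (KFlatLib.isIso_Q_map _ inferInstance)).symm ≪≫ e⟩⟩
  · rintro i (hi | hi)
    · exact (P.truncGE a).isZero_of_isStrictlyGE a i hi
    · rcases lt_trichotomy i a with hia | rfl | hia
      · exact (P.truncGE a).isZero_of_isStrictlyGE a i hia
      · exact (IsZero.of_epi (P.pOpcycles i) (hz i hi)).of_iso (P.truncGEXIsoOpcycles i)
      · exact (hz i hi).of_iso (P.truncGEXIso a i hia)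
  · rcases lt_trichotomy i a with hia | rfl | hia
    · exact KFlatLib.IsFlat.of_isZero ((P.truncGE a).isZero_of_isStrictlyGE a i hia)
    · exact KFlatLib.IsFlat.of_iso (P.truncGEXIsoOpcycles i).symm hop
    · exact KFlatLib.IsFlat.of_iso (P.truncGEXIso a i hia).symm (hflat i)

end Groth.Agent.KSix54
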