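import Groth.Agent.KSix54.AmpComp
import Groth.Agent.KSix54.FlatAmp

/-! Relative tor amplitude is local on the source. -/

set_option linter.style.haveILetI false
set_option backward.isDefEq.respectTransparency false
set_option backward.isDefEq.respectTransparency.types false

universe u

open CategoryTheory CategoryTheory.Limits AlgebraicGeometry

attribute [local instance] HasDerivedCategory.standard

namespace Groth.Agent.KSix54

variable {X U Y : Scheme.{u}} (j : U ⟶ X) [IsOpenImmersion j]

/-- The stalk of a restriction, as a module over the local ring of the ambient scheme. -/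
noncomputable def restrictStalkEquiv (M : X.Modules) (z : U) :
    (DerSch.stalkOver j z).obj (M.restrict j) ≅ (DerSch.stalkFunctor X (j.base z)).obj M :=
  let η := (Scheme.Modules.restrictStalkNatIso j z).app M
  LinearEquiv.toModuleIso (X₁ := (DerSch.stalkOver j z).obj (M.restrict j))
    (X₂ := (DerSch.stalkFunctor X (j.base z)).obj M)
  { η.addCommGroupIsoToAddEquiv with
    map_smul' := fun a m => by
      have hg : ∀ (V : U.Opens) (hV : z ∈ V) (s : Γ(M, j ''ᵁ V)),
          η.hom ((M.restrict j).presheaf.germ V z hV s) =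
            M.presheaf.germ (j ''ᵁ V) (j.base z) ⟨z, hV, rfl⟩ s := fun V hV s =>
        ConcreteCategory.congr_hom (Scheme.Modules.germ_restrictStalkNatIso_hom_app j z M hV) s
      obtain ⟨V, hV, s, rfl⟩ := (M.restrict j).presheaf.germ_exist m
      obtain ⟨W, hW, t, rfl⟩ := X.presheaf.germ_exist a
      let V' : U.Opens := V ⊓ j ⁻¹ᵁ W
      have hV' : z ∈ V' := ⟨hV, hW⟩
      have hle : j ''ᵁ V' ≤ W := by rintro _ ⟨y, ⟨-, hy⟩, rfl⟩; exact hy
      have hz' : j.base z ∈ j ''ᵁ V' := ⟨z, hV', rfl⟩
      have hsm : (j.stalkMap z).hom (X.presheaf.germ W (j.base z) hW t) =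
          U.presheaf.germ V' z hV'
            ((j.appIso V').hom (X.presheaf.map (homOfLE hle).op t)) := by
        rw [← X.presheaf.germ_res_apply (homOfLE hle) (j.base z) hz' t]
        erw [Scheme.Hom.germ_stalkMap_apply]
        rw [Scheme.Hom.appIso_hom']
        erw [← U.presheaf.germ_res_apply (homOfLE (show V' ≤ j ⁻¹ᵁ (j ''ᵁ V') from
          (j.preimage_image_eq V').ge)) z hV']
        rfl
      change η.hom ((j.stalkMap z).hom (X.presheaf.germ W (j.base z) hW t) •
          (M.restrict j).presheaf.germ V z hV s) =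
        (X.presheaf.germ W (j.base z) hW t : X.presheaf.stalk (j.base z)) •
          (show M.presheaf.stalk (j.base z) from η.hom ((M.restrict j).presheaf.germ V z hV s))
      rw [hsm, ← (M.restrict j).presheaf.germ_res_apply (homOfLE (inf_le_left : V' ≤ V)) z hV' s,
        ← QCoh.germ_smul' (M.restrict j) hV']
      rw [hg, hg, ← X.presheaf.germ_res_apply (homOfLE hle) (j.base z) hz' t, ← QCoh.germ_smul' M hz']
      congr 1
      have := ConcreteCategory.congr_hom (Scheme.Modules.smul_restrictAppIso_hom j M V'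
        ((j.appIso V').hom (X.presheaf.map (homOfLE hle).op t)))
        ((M.restrict j).presheaf.map (homOfLE (inf_le_left : V' ≤ V)).op s)
      refine this.trans ?_
      simp only [Iso.hom_inv_id_apply]
      rfl }

lemma restrictStalkEquiv_naturality {M N : X.Modules} (φ : M ⟶ N) (z : U) :
    (DerSch.stalkOver j z).map ((Scheme.Modules.restrictFunctor j).map φ) ≫
        (restrictStalkEquiv j N z).hom =
      (restrictStalkEquiv j M z).hom ≫ (DerSch.stalkFunctor X (j.base z)).map φ := by
  ext m
  exact congrArg (fun ψ => ψ m) ((Scheme.Modules.restrictStalkNatIso j z).hom.naturality φ)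

/-- Stalks of the restricted complex over the base. -/
noncomputable def stalkRestrictCxIso (f : X ⟶ Y) (z : U) (F : CochainComplex X.Modules ℤ) :
    (DerSch.stalkCxOver (j ≫ f) z).obj ((KFlatLib.rCx j).obj F) ≅
      (DerSch.stalkCxOver f (j.base z)).obj F :=
  HomologicalComplex.Hom.isoOfComponents
    (fun i => (stalkOverCompIso j f z).app _ ≪≫
      (ModuleCat.restrictScalars (f.stalkMap (j.base z)).hom).mapIso (restrictStalkEquiv j (F.X i) z))
    fun i k _ => by
      ext m
      exact congrArg (fun ψ => ψ m) (restrictStalkEquiv_naturality j (F.d i k) z).symm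

theorem torAmplitudeAt_restrict_iff (f : X ⟶ Y) (a b : ℤ) (F : CochainComplex X.Modules ℤ) (z : U) :
    DerSch.HasTorAmplitudeAt (j ≫ f) a b ((KFlatLib.rCx j).obj F) z ↔
      DerSch.HasTorAmplitudeAt f a b F (j.base z) :=
  ⟨H9Misc.DRingTor.of_iso (DerivedCategory.Q.mapIso (stalkRestrictCxIso j f z F)),
    H9Misc.DRingTor.of_iso (DerivedCategory.Q.mapIso (stalkRestrictCxIso j f z F)).symm⟩

end Groth.Agent.KSix54

namespace Groth.Agent.KSix54

open Groth.Agent.H9Misc

variable {X U Y : Scheme.{u}}

theorem torAmplitudeAt_of_push (i : X ⟶ Y) [IsClosedImmersion i] {a b : ℤ}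
    {F : CochainComplex X.Modules ℤ} {x : X}
    (h : DerSch.HasTorAmplitudeAt (𝟙 Y) a b
      (((Scheme.Modules.pushforward i).mapHomologicalComplex (ComplexShape.up ℤ)).obj F) (i.base x)) :
    DerSch.HasTorAmplitudeAt i a b F x :=
  DRingTor.of_iso (DerivedCategory.Q.mapIso (HomologicalComplex.Hom.isoOfComponents
      (fun j => pushStalkEquiv i (F.X j) x) fun j k _ => (pushStalkEquiv_naturality i (F.d j k) x).symm))
    ((torAmplitudeAt_id_iff a b _ (i.base x)).1 h)

theorem torAmplitudeAt_congr_hom {f f' : U ⟶ Y} (e : f = f') {a b : ℤ}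
    {F : CochainComplex U.Modules ℤ} {x : U} (h : DerSch.HasTorAmplitudeAt f a b F x) :
    DerSch.HasTorAmplitudeAt f' a b F x := by
  subst e
  exact h

/-- Flat amplitude near a point gives tor amplitude there. -/
theorem torAmplitudeAt_id_of_local (j : U ⟶ Y) [IsOpenImmersion j] {a b : ℤ}
    {G : CochainComplex Y.Modules ℤ}
    (h : DCoh.HasFlatAmplitudeIn a b (DCoh.toD U ((KFlatLib.rCx j).obj G))) (v : U) :
    DerSch.HasTorAmplitudeAt (𝟙 Y) a b G (j.base v) := by
  have h1 := torAmplitudeAt_comp_flat (g := j) (torAmplitude_id_of_flatAmplitude h v)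
  exact (torAmplitudeAt_restrict_iff j (𝟙 Y) a b G v).1
    (torAmplitudeAt_congr_hom ((Category.id_comp j).trans (Category.comp_id j).symm) h1)

end Groth.Agent.KSix54
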