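import Groth.Agent.KSix54.AmpModule
import Groth.Agent.H9Misc.DRingTorRestrict
import Groth.Agent.KFlatLib.Scheme.ClosedPush
import Groth.Agent.QCoh.Stalk

/-! Relative tor amplitude along composites and closed immersions. -/

set_option linter.style.haveILetI false
set_option backward.isDefEq.respectTransparency false

universe u

open CategoryTheory CategoryTheory.Limits AlgebraicGeometry

attribute [local instance] HasDerivedCategory.standard

namespace Groth.Agent.KSix54

open Groth.Agent.H9Misc Groth.Agent.H9Misc.DRingTor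

variable {X Y Z : Scheme.{u}}

/-- The stalk functor over the base of a composite. -/
noncomputable def stalkOverCompIso (f : X ⟶ Y) (g : Y ⟶ Z) (x : X) :
    DerSch.stalkOver (f ≫ g) x ≅
      DerSch.stalkOver f x ⋙ ModuleCat.restrictScalars (g.stalkMap (f.base x)).hom :=
  Functor.isoWhiskerLeft (DerSch.stalkFunctor X x)
      (ModuleCat.restrictScalarsComp' _ _ _
        (by
          refine RingHom.ext fun r => ?_
          exact (congrArg (fun φ => φ r) (congrArg CommRingCat.Hom.hom (Scheme.Hom.stalkMap_comp f g x))))) ≪≫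
    (Functor.associator _ _ _).symm

/-- Tor amplitude along a composite, at one point. -/
theorem torAmplitudeAt_comp {f : X ⟶ Y} {g : Y ⟶ Z} {a b : ℤ} {n : ℕ} {F : CochainComplex X.Modules ℤ}
    {x : X} (hF : DerSch.HasTorAmplitudeAt f a b F x)
    (hg : DerSch.HasTorAmplitudeAt g (-(n : ℤ)) 0 (DerSch.unitCx Y) (f.base x)) :
    DerSch.HasTorAmplitudeAt (f ≫ g) (a - n) b F x := by
  let φ := (g.stalkMap (f.base x)).hom
  letI := φ.toAlgebra
  let A := Z.presheaf.stalk (g.base (f.base x))
  let B := Y.presheaf.stalk (f.base x)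
  let e : (stalkD g (f.base x)).obj (DCoh.toD Y (DerSch.unitCx Y)) ≅ Dual.inD (A : Type u) (B : Type u) :=
    (stalkD g (f.base x)).mapIso
        ((DerivedCategory.singleFunctorIsoCompQ Y.Modules 0).app (Coh.structureModule Y)).symm ≪≫
      stalkDSingle g (f.base x) (Coh.structureModule Y) ≪≫
      (DerivedCategory.singleFunctor _ 0).mapIso ((ModuleCat.restrictScalars φ).mapIso
        ((KFlatLib.stalkToPIso (f.base x)).app _ ≪≫ (KFlatLib.stalkUnitEquiv (f.base x)).toModuleIso.symm) ≪≫
          DRingTorDescent.resBIso (A := A) B)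
  have hB : DRing.HasTorAmplitudeIn (A : Type u) (-(n : ℤ)) 0 (Dual.inD (A : Type u) (B : Type u)) :=
    of_iso e ((torAmplitudeAt_iff g _ _ _ _).1 hg)
  have h := hasTorAmplitudeIn_restrictScalars (A := (A : Type u)) (B := (B : Type u)) n hB _ a b hF
  refine of_iso ?_ h
  exact ((ModuleCat.restrictScalars φ).mapDerivedCategoryFactors.app _) ≪≫
    DerivedCategory.Q.mapIso
      (HomologicalComplex.Hom.isoOfComponents (fun i => ((stalkOverCompIso f g x).app (F.X i)).symm)
        fun i j _ => ((stalkOverCompIso f g x).inv.naturality (F.d i j)).symm)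

/-- Tor amplitude along a composite. -/
theorem torAmplitude_comp {f : X ⟶ Y} {g : Y ⟶ Z} {a b : ℤ} {n : ℕ} {F : CochainComplex X.Modules ℤ}
    (hF : DerSch.HasTorAmplitude f a b F) (hg : DerSch.HasTorDimLE g n) :
    DerSch.HasTorAmplitude (f ≫ g) (a - n) b F :=
  fun x => torAmplitudeAt_comp (hF x) (hg (f.base x))

/-- Followed by a flat morphism. -/
theorem torAmplitudeAt_comp_flat {f : X ⟶ Y} {g : Y ⟶ Z} [Flat g] {a b : ℤ}
    {F : CochainComplex X.Modules ℤ} {x : X} (hF : DerSch.HasTorAmplitudeAt f a b F x) :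
    DerSch.HasTorAmplitudeAt (f ≫ g) a b F x := by
  have h := torAmplitudeAt_comp (n := 0) hF ((torDimLE_zero_iff_flat g).2 inferInstance (f.base x))
  rwa [Nat.cast_zero, sub_zero] at h

variable (i : X ⟶ Y) [IsClosedImmersion i]

/-- The stalk of a direct image, as a module over the local ring of the target. -/
noncomputable def pushStalkEquiv (M : X.Modules) (x : X) :
    ((DerSch.stalkFunctor Y (i.base x)).obj ((Scheme.Modules.pushforward i).obj M)) ≅
      (DerSch.stalkOver i x).obj M :=
  haveI := KFlatLib.isIso_stalkPushforward_closed i M x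
  let e : ((Scheme.Modules.pushforward i).obj M).presheaf.stalk (i.base x) ≃+ M.presheaf.stalk x :=
    (asIso (TopCat.Presheaf.stalkPushforward Ab.{u} i.base M.presheaf x)).addCommGroupIsoToAddEquiv
  have he : ∀ (U : Y.Opens) (hU : i.base x ∈ U) (v : Γ(M, i ⁻¹ᵁ U)),
      e (((Scheme.Modules.pushforward i).obj M).presheaf.germ U (i.base x) hU v) =
        M.presheaf.germ (i ⁻¹ᵁ U) x hU v := fun U hU v =>
    congrArg (fun φ => φ v) (TopCat.Presheaf.stalkPushforward_germ Ab.{u} i.base M.presheaf U x hU)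
  LinearEquiv.toModuleIso (X₁ := (DerSch.stalkFunctor Y (i.base x)).obj ((Scheme.Modules.pushforward i).obj M))
    (X₂ := (DerSch.stalkOver i x).obj M)
  { e with
    map_smul' := fun a m => by
      obtain ⟨U, hU, b, rfl⟩ := Y.presheaf.exists_germ_eq (x := i.base x) a
      obtain ⟨V, hV, v, rfl⟩ := ((Scheme.Modules.pushforward i).obj M).presheaf.germ_exist m
      have hW : i.base x ∈ U ⊓ V := ⟨hU, hV⟩
      simp only [AddEquiv.toEquiv_eq_coe, Equiv.toFun_as_coe, EquivLike.coe_coe, RingHom.id_apply]
      rw [← Y.presheaf.germ_res_apply (homOfLE inf_le_left : U ⊓ V ⟶ U) (i.base x) hW b,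
        ← ((Scheme.Modules.pushforward i).obj M).presheaf.germ_res_apply
          (homOfLE inf_le_right : U ⊓ V ⟶ V) (i.base x) hW v]
      generalize Y.presheaf.map (homOfLE inf_le_left : U ⊓ V ⟶ U).op b = b'
      generalize ((Scheme.Modules.pushforward i).obj M).presheaf.map (homOfLE inf_le_right : U ⊓ V ⟶ V).op v = v'
      rw [← QCoh.germ_smul' ((Scheme.Modules.pushforward i).obj M) hW, he, he]
      refine (QCoh.germ_smul' M (show x ∈ i ⁻¹ᵁ (U ⊓ V) from hW) (i.app _ b') v').trans ?_
      exact congrArg (fun t => t • M.presheaf.germ (i ⁻¹ᵁ (U ⊓ V)) x hW v')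
        (Scheme.Hom.germ_stalkMap_apply i (U ⊓ V) x hW b').symm }

lemma pushStalkEquiv_naturality {M N : X.Modules} (φ : M ⟶ N) (x : X) :
    (DerSch.stalkFunctor Y (i.base x)).map ((Scheme.Modules.pushforward i).map φ) ≫
        (pushStalkEquiv i N x).hom =
      (pushStalkEquiv i M x).hom ≫ (DerSch.stalkOver i x).map φ := by
  ext m
  exact congrArg (fun ψ => ψ m) (KFlatLib.stalkPushforward_naturality' i.base
    ((KFlatLib.toAb X ⋙ TopCat.Sheaf.forget _ _).map φ) x)

/-- Absolute flat amplitude of the direct image gives relative tor amplitude. -/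
theorem torAmplitude_of_push {F : CochainComplex X.Modules ℤ} {a b : ℤ}
    (hF : DCoh.HasFlatAmplitudeIn a b
      (DCoh.toD Y (((Scheme.Modules.pushforward i).mapHomologicalComplex (ComplexShape.up ℤ)).obj F))) :
    DerSch.HasTorAmplitude i a b F := by
  obtain ⟨E, hz, hf, ⟨e⟩⟩ := hF
  intro x
  let eD := (DerSch.stalkFunctor Y (i.base x)).mapDerivedCategory.mapIso e
  refine ⟨(KFlatLib.stalkCx (i.base x)).obj E,
    fun j hj => (DerSch.stalkFunctor Y (i.base x)).map_isZero (hz j hj), fun j => hf j (i.base x),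
    ⟨((DerSch.stalkFunctor Y (i.base x)).mapDerivedCategoryFactors.app E).symm ≪≫ eD ≪≫
      (DerSch.stalkFunctor Y (i.base x)).mapDerivedCategoryFactors.app _ ≪≫
      DerivedCategory.Q.mapIso (HomologicalComplex.Hom.isoOfComponents
        (fun j => pushStalkEquiv i (F.X j) x)
        fun j k _ => (pushStalkEquiv_naturality i (F.d j k) x).symm)⟩⟩

end Groth.Agent.KSix54

namespace Groth.Agent.KSix54

open Groth.Agent.H9Misc

variable {X Y : Scheme.{u}}

/-- Cohomology vanishes outside the tor amplitude. -/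
theorem isZero_homology_of_torAmplitude {f : X ⟶ Y} {a b : ℤ} {F : CochainComplex X.Modules ℤ}
    (hF : DerSch.HasTorAmplitude f a b F) (i : ℤ) (hi : i < a ∨ b < i) : IsZero (F.homology i) := by
  rw [← HomologicalComplex.exactAt_iff_isZero_homology]
  refine (KFlatLib.exact_iff_stalk _).2 fun x => ?_
  obtain ⟨E, hz, -, ⟨e⟩⟩ := hF x
  have hS : IsZero (((DerSch.stalkCxOver f x).obj F).homology i) :=
    (ShortComplex.isZero_homology_of_isZero_X₂ (E.sc i) (hz i hi) :
      IsZero (E.homology i)).of_iso
      (((DerivedCategory.homologyFunctorFactors _ i).app _).symm ≪≫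
        (DerivedCategory.homologyFunctor _ i).mapIso e.symm ≪≫
        (DerivedCategory.homologyFunctorFactors _ i).app _)
  have h1 := (HomologicalComplex.exactAt_iff_isZero_homology _ _).2 hS
  have h2 : (((KFlatLib.stalkCx x).obj F).sc i).map (ModuleCat.restrictScalars (f.stalkMap x).hom)
      |>.Exact := h1
  exact (ShortComplex.exact_map_iff_of_faithful _ _).1 h2

theorem isZero_HD_of_torAmplitude {f : X ⟶ Y} {a b : ℤ} {F : CochainComplex X.Modules ℤ}
    (hF : DerSch.HasTorAmplitude f a b F) (i : ℤ) (hi : i < a ∨ b < i) :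
    IsZero (DCoh.HD (DCoh.toD X F) i) :=
  (isZero_homology_of_torAmplitude hF i hi).of_iso
    ((DerivedCategory.homologyFunctorFactors X.Modules i).app F)

end Groth.Agent.KSix54
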