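import Groth.Agent.KSix54.Basic
import Groth.Agent.H9Misc.DRingTorDim
import Groth.Agent.KFlatLib.Perfect.LocFree
import Groth.Prelude.Def_FlatMod2
import Mathlib.AlgebraicGeometry.Morphisms.Flat

/-! Relative tor amplitude of a module in degree zero. -/

set_option linter.style.haveILetI false

universe u

open CategoryTheory CategoryTheory.Limits AlgebraicGeometry

attribute [local instance] HasDerivedCategory.standard

namespace Groth.Agent.KSix54

open Groth.Agent.H9Misc Groth.Agent.H9Misc.DRingTor

variable {X Y : Scheme.{u}} (f : X ⟶ Y)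

/-- The stalk of a module placed in degree zero. -/
noncomputable def stalkDSingle (x : X) (M : X.Modules) :
    (stalkD f x).obj (DCoh.inD X M) ≅
      Dual.inD (Y.presheaf.stalk (f.base x) : Type u) ((DerSch.stalkOver f x).obj M) :=
  ((DerSch.stalkOver f x).mapDerivedCategorySingleFunctor 0).app M

lemma torAmplitudeAt_single_iff (M : X.Modules) (x : X) :
    DerSch.HasTorAmplitudeAt f 0 0
        ((HomologicalComplex.single X.Modules (ComplexShape.up ℤ) 0).obj M) x ↔
      FlatMod.IsFlatOverAt f M x := by
  rw [torAmplitudeAt_iff]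
  let e : (stalkD f x).obj (DCoh.toD X ((HomologicalComplex.single X.Modules (ComplexShape.up ℤ) 0).obj M)) ≅
      Dual.inD (Y.presheaf.stalk (f.base x) : Type u) ((DerSch.stalkOver f x).obj M) :=
    (stalkD f x).mapIso ((DerivedCategory.singleFunctorIsoCompQ X.Modules 0).app M).symm ≪≫
      stalkDSingle f x M
  constructor
  · intro h
    exact flat_of_inD _ (DRingTor.of_iso e h)
  · intro h
    haveI : Module.Flat (Y.presheaf.stalk (f.base x)) ((DerSch.stalkOver f x).obj M) := h
    exact DRingTor.of_iso e.symm (inD_of_flat _)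

lemma torAmplitude_single_iff (M : X.Modules) :
    DerSch.HasTorAmplitude f 0 0 ((HomologicalComplex.single X.Modules (ComplexShape.up ℤ) 0).obj M) ↔
      FlatMod.IsFlatOver f M :=
  forall_congr' fun x => torAmplitudeAt_single_iff f M x

lemma isFlatOverAt_structure_iff (x : X) :
    FlatMod.IsFlatOverAt f (Coh.structureModule X) x ↔ (f.stalkMap x).hom.Flat := by
  let R := Y.presheaf.stalk (f.base x)
  let S := X.presheaf.stalk x
  let e : (ModuleCat.restrictScalars (f.stalkMap x).hom).obj (ModuleCat.of S S) ≅
      (DerSch.stalkOver f x).obj (Coh.structureModule X) :=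
    (ModuleCat.restrictScalars (f.stalkMap x).hom).mapIso
      ((KFlatLib.stalkUnitEquiv x).toModuleIso ≪≫ ((KFlatLib.stalkToPIso x).app _).symm)
  constructor
  · intro h
    haveI : Module.Flat R ((DerSch.stalkOver f x).obj (Coh.structureModule X)) := h
    have h' : Module.Flat R ((ModuleCat.restrictScalars (f.stalkMap x).hom).obj (ModuleCat.of S S)) :=
      Module.Flat.of_linearEquiv e.toLinearEquiv
    exact h'
  · intro h
    haveI : Module.Flat R ((ModuleCat.restrictScalars (f.stalkMap x).hom).obj (ModuleCat.of S S)) := h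
    have h' : Module.Flat R ((DerSch.stalkOver f x).obj (Coh.structureModule X)) :=
      Module.Flat.of_linearEquiv e.toLinearEquiv.symm
    exact h'

lemma torDimLE_zero_iff_flat : DerSch.HasTorDimLE f 0 ↔ Flat f := by
  rw [Flat.iff_flat_stalkMap]
  show DerSch.HasTorAmplitude f (-((0 : ℕ) : ℤ)) 0 _ ↔ _
  rw [Nat.cast_zero, neg_zero]
  exact (torAmplitude_single_iff f (Coh.structureModule X)).trans
    (forall_congr' fun x => isFlatOverAt_structure_iff f x)

end Groth.Agent.KSix54
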