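import Groth.Agent.KSix54.PCI.Iso
import Groth.Agent.KSix54.Rel.Local

/-! The direct image of the structure sheaf along a closed immersion, on an affine open. -/

set_option linter.style.haveILetI false
set_option backward.isDefEq.respectTransparency false

universe u

open CategoryTheory CategoryTheory.Limits AlgebraicGeometry

attribute [local instance] HasDerivedCategory.standard

namespace Groth.Agent.KSix54

open Groth.Agent.KFlatLib

/-- Restriction along the inverse of an isomorphism is direct image. -/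
noncomputable def restrictInvIso {A B : Scheme.{u}} (e : A ≅ B) :
    Scheme.Modules.restrictFunctor e.inv ≅ Scheme.Modules.pushforward e.hom :=
  let c : Scheme.Modules.pushforward e.hom ⋙ Scheme.Modules.pushforward e.inv ≅ 𝟭 _ :=
    Scheme.Modules.pushforwardComp _ _ ≪≫
      Scheme.Modules.pushforwardCongr e.hom_inv_id ≪≫ Scheme.Modules.pushforwardId A
  (Functor.leftUnitor _).symm ≪≫ Functor.isoWhiskerRight c.symm _ ≪≫ Functor.associator _ _ _ ≪≫
    Functor.isoWhiskerLeft _ (Scheme.Modules.restrictFunctorAdjCounitIso e.inv) ≪≫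
    Functor.rightUnitor _

variable {Z X : Scheme.{u}} (i : Z ⟶ X) {U : X.Opens}

lemma isClosedImmersion_spec_app (hU : IsAffineOpen U) (hci : IsClosedImmersion (i ∣_ U)) :
    IsAffineOpen (i ⁻¹ᵁ U) ∧ Function.Surjective (i.app U) := by
  haveI : IsAffine (U : Scheme.{u}) := hU
  have h := IsClosedImmersion.isAffine_surjective_of_isAffine (i ∣_ U)
  haveI : IsAffine (i ⁻¹ᵁ U : Scheme.{u}) := h.1
  refine ⟨h.1, fun b => ?_⟩
  have hU' : IsAffineOpen (i ⁻¹ᵁ U) := h.1
  have hsq : i.app U = U.topIso.inv ≫ (i ∣_ U).appTop ≫ (i ⁻¹ᵁ U).topIso.hom := by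
    rw [Scheme.Hom.appTop, morphismRestrict_app]
    simp [Scheme.Opens.topIso, Scheme.Hom.app_eq_appLE, Scheme.Hom.appLE_map, Scheme.Hom.map_appLE]
  rw [hsq]
  exact ((ConcreteCategory.bijective_of_isIso (i ⁻¹ᵁ U).topIso.hom).2.comp (h.2.comp
    (ConcreteCategory.bijective_of_isIso U.topIso.inv).2)) b

variable [IsClosedImmersion i]

/-- On an affine open `i_* O` is the module of sections of the closed subscheme. -/
noncomputable def pushUnitAffineIso (hU : IsAffineOpen U) :
    (rho hU.fromSpec).obj (DCoh.inD X ((Scheme.Modules.pushforward i).obj (Coh.structureModule Z))) ≅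
      (DCoh.tildeD Γ(X, U)).obj (Dual.inD (Γ(X, U) : Type u)
        ((ModuleCat.restrictScalars (i.app U).hom).obj (ModuleCat.of Γ(Z, i ⁻¹ᵁ U) Γ(Z, i ⁻¹ᵁ U)))) :=
  haveI := restrict_closed i U
  haveI : IsAffine (U : Scheme.{u}) := hU
  let g := i.app U
  let hW : IsAffineOpen (i ⁻¹ᵁ U) := hU.preimage i
  haveI : IsClosedImmersion (Spec.map g) := IsClosedImmersion.spec_of_surjective g (i.app_surjective U hU)
  let M := Coh.structureModule Z
  let j : (i ⁻¹ᵁ U : Scheme.{u}) ⟶ Z := (i ⁻¹ᵁ U).ι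
  have hsq : hW.isoSpec.hom ≫ Spec.map g = (i ∣_ U) ≫ hU.isoSpec.hom := by
    rw [hW.isoSpec_hom, hU.isoSpec_hom]
    exact Scheme.Opens.toSpecΓ_naturality i U
  have hj : hU.isoSpec.inv ≫ U.ι = hU.fromSpec := hU.isoSpec_inv_ι
  (rhoComp hU.isoSpec.inv U.ι hU.fromSpec hj _).symm ≪≫
    (rho hU.isoSpec.inv).mapIso (rhoSingle U.ι _) ≪≫ rhoSingle hU.isoSpec.inv _ ≪≫
    (DerivedCategory.singleFunctor _ 0).mapIso
      ((restrictInvIso hU.isoSpec).app _ ≪≫
        (Scheme.Modules.pushforward hU.isoSpec.hom).mapIso ((pushRestrictIso i U).app M ≪≫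
          (Scheme.Modules.pushforward (i ∣_ U)).mapIso (restrictStructureIso j)) ≪≫
        (Scheme.Modules.pushforwardComp (i ∣_ U) hU.isoSpec.hom).app _ ≪≫
        (Scheme.Modules.pushforwardCongr hsq.symm).app _ ≪≫
        ((Scheme.Modules.pushforwardComp hW.isoSpec.hom (Spec.map g)).app _).symm ≪≫
        (Scheme.Modules.pushforward (Spec.map g)).mapIso (pushStructureIso hW.isoSpec) ≪≫
        (tildeRestrictSelfIso g).symm) ≪≫
    (((tilde.functor Γ(X, U)).mapDerivedCategorySingleFunctor 0).app _).symm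

end Groth.Agent.KSix54
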