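import Groth.Agent.PerfMor.FlatPC
import Mathlib

/-! Finitely presented modules flat over the base of a flat finitely presented algebra are
pseudo-coherent. -/

set_option linter.style.haveILetI false

universe u

open CategoryTheory CategoryTheory.Limits

attribute [local instance] HasDerivedCategory.standard

namespace Groth.Agent.KSix54

open Groth.Agent.H9Misc

lemma flat_prod (R : Type u) [CommRing R] (M N : Type u) [AddCommGroup M] [Module R M] [AddCommGroup N]
    [Module R N] [Module.Flat R M] [Module.Flat R N] : Module.Flat R (M × N) := by
  refine Module.Flat.iff_lTensor_preserves_injective_linearMap.2 fun N₁ N₂ _ _ _ _ f hf => ?_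
  let e₁ := TensorProduct.prodLeft R R M N N₁
  let e₂ := TensorProduct.prodLeft R R M N N₂
  have h : ∀ x, e₂ (f.lTensor (M × N) x) = ((f.lTensor M).prodMap (f.lTensor N)) (e₁ x) := fun x => by
    induction x with
    | zero => simp only [map_zero]
    | add x y hx hy => simp only [map_add, hx, hy]
    | tmul p n => rfl
  intro x y hxy
  apply e₁.injective
  have := (h x).symm.trans ((congrArg e₂ hxy).trans (h y))
  exact Prod.ext (Module.Flat.lTensor_preserves_injective_linearMap f hf (congrArg Prod.fst this))
    (Module.Flat.lTensor_preserves_injective_linearMap f hf (congrArg Prod.snd this))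

/-- A finitely presented module over a flat finitely presented algebra which is flat over the base
is pseudo-coherent. -/
theorem pc'_of_flat_fp (A : Type u) {P : Type u} [CommRing A] [CommRing P] [Algebra A P] [Module.Flat A P]
    [Algebra.FinitePresentation A P] (M : Type u) [AddCommGroup M] [Module P M] [Module A M]
    [IsScalarTower A P M] [Module.Flat A M] [Module.FinitePresentation P M] :
    DRing.IsPseudoCoherentModule' P M := by
  letI : Module Pᵐᵒᵖ M := Module.compHom M ((RingHom.id P).fromOpposite fun x y => mul_comm x y)
  haveI : IsCentralScalar P M := ⟨fun r m => rfl⟩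
  haveI : IsScalarTower A Pᵐᵒᵖ M := ⟨fun a r m => smul_assoc a r.unop m⟩
  let B := TrivSqZeroExt P M
  let e : B ≃ₗ[P] P × M := LinearEquiv.refl P (P × M)
  haveI : Module.Finite P B := Module.Finite.equiv e.symm
  haveI : Module.FinitePresentation P (P × M) :=
    inferInstance
  haveI : Module.FinitePresentation P B := Module.FinitePresentation.of_equiv e.symm
  haveI : Algebra.FinitePresentation P B := inferInstance
  haveI : IsScalarTower A P B := IsScalarTower.of_algebraMap_eq fun a => rfl
  haveI : Algebra.FinitePresentation A B := Algebra.FinitePresentation.trans A P B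
  haveI : Module.Flat A (P × M) := flat_prod A P M
  haveI : Module.Flat A B := Module.Flat.of_linearEquiv (e.restrictScalars A)
  have hQ : PCMor.Q (algebraMap P B) := by
    refine PCMor.Q.cancel (PerfMor.q_of_flat_fp A P) ?_
    rw [← IsScalarTower.algebraMap_eq]
    exact PerfMor.q_of_flat_fp A B
  have hB : DRing.IsPseudoCoherentModule' P B := PCMor.q_iff_of_finite.1 hQ
  refine (DRingPC.pc'_iff _).2 fun m => ?_
  exact PerfMor.pc_of_exact (LinearMap.inl P P M) (LinearMap.snd P P M) LinearMap.inl_injective
    Prod.snd_surjective Function.Exact.inl_snd m (Triage.NoethPC.pc_of_free (A := P) P (m + 1))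
    (DRingPC.of_iso ((DerivedCategory.singleFunctor (ModuleCat.{u} P) 0).mapIso e.toModuleIso)
      ((DRingPC.pc'_iff _).1 hB m))

end Groth.Agent.KSix54
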