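import Groth.Agent.KSix54.ClosedAffine
import Groth.Agent.KSix54.Rel.MorProp
import Groth.Agent.KSix54.AmpLocal
import Groth.Agent.KRegLib.Perfect
import Groth.Agent.KFlatLib.Scheme.TildePerf
import Groth.Prelude.Def_RegImm

/-! Koszul regular immersions. -/

set_option linter.style.haveILetI false
set_option backward.isDefEq.respectTransparency false

universe u

open CategoryTheory CategoryTheory.Limits AlgebraicGeometry

attribute [local instance] HasDerivedCategory.standard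

namespace Groth.Agent.KSix54

open Groth.Agent.KFlatLib Groth.Agent.H9Misc

/-- The quotient by a Koszul regular sequence has a finite projective model placed in the expected range. -/
theorem exists_finProj_model {A : Type u} [CommRing A] (l : List A) (h : LCI.IsKoszulRegularSeq A l) :
    ∃ K : DRing.Cx A, DRing.VanishesOutside K (-(l.length : ℤ)) 0 ∧
      (∀ i, Module.Finite A (K.X i) ∧ Module.Projective A (K.X i)) ∧
      Nonempty (DRing.toD K ≅ Dual.inD A (A ⧸ Ideal.ofList l)) := by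
  let K := CohIII.koszulCx (ModuleCat.of A A) l
  have h' : ∀ i : ℤ, i ≠ 0 → IsZero (K.homology i) := fun i hi => by
    have := h i hi
    rwa [← HomologicalComplex.exactAt_iff_isZero_homology, Synt29.koszul_eq,
      HomologicalComplex.exactAt_iff_isZero_homology] at this
  let X : Dual.D A := DRing.toD K
  have hH : ∀ i : ℤ, (DerivedCategory.homologyFunctor (ModuleCat.{u} A) i).obj X ≅ K.homology i := fun i =>
    (DerivedCategory.homologyFunctorFactors (ModuleCat.{u} A) i).app K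
  haveI : X.IsGE 0 := (DerivedCategory.isGE_iff _ _).2 fun i hi => (h' i (by omega)).of_iso (hH i)
  haveI : X.IsLE 0 := (DerivedCategory.isLE_iff _ _).2 fun i hi => (h' i (by omega)).of_iso (hH i)
  obtain ⟨Y, ⟨e⟩⟩ := DerivedCategory.exists_iso_singleFunctor_obj_of_isGE_of_isLE X 0
  obtain ⟨t⟩ := Koszul15.nonempty_top_equiv l (ModuleCat.of A A)
  have he : (Ideal.ofList l • (⊤ : Submodule A (ModuleCat.of A A)) : Submodule A A) = Ideal.ofList l := by
    show Ideal.ofList l • (⊤ : Submodule A A) = _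
    rw [smul_eq_mul, Ideal.mul_top]
  let eY : Y ≅ ModuleCat.of A (A ⧸ Ideal.ofList l) :=
    ((DerivedCategory.singleFunctorCompHomologyFunctorIso (ModuleCat.{u} A) 0).app Y).symm ≪≫
      (DerivedCategory.homologyFunctor (ModuleCat.{u} A) 0).mapIso e.symm ≪≫ hH 0 ≪≫ t.toModuleIso ≪≫
      (Submodule.quotEquivOfEq _ _ he).toModuleIso
  refine ⟨K, fun i hi => Koszul15.isZero_X _ l i (hi.symm.imp id id), fun i => ?_,
    ⟨e ≪≫ (DerivedCategory.singleFunctor (ModuleCat.{u} A) 0).mapIso eY⟩⟩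
  obtain ⟨hfin, hfree⟩ := KRegLib.koszulCx_finiteFree l i
  exact ⟨hfin, Module.Projective.of_free⟩

variable {Z X : Scheme.{u}} (i : Z ⟶ X)

lemma module_iso_of_ker {U : X.Opens} (hU : IsAffineOpen U) (hci : IsClosedImmersion (i ∣_ U))
    {rs : List Γ(X, U)} (hker : RingHom.ker (i.app U).hom = Ideal.ofList rs) :
    Nonempty (ModuleCat.of Γ(X, U) (Γ(X, U) ⧸ Ideal.ofList rs) ≅
      (ModuleCat.restrictScalars (i.app U).hom).obj (ModuleCat.of Γ(Z, i ⁻¹ᵁ U) Γ(Z, i ⁻¹ᵁ U))) := by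
  obtain ⟨-, hsur⟩ := isClosedImmersion_spec_app i hU hci
  letI := (i.app U).hom.toAlgebra
  let ψ : Γ(X, U) →ₐ[Γ(X, U)] Γ(Z, i ⁻¹ᵁ U) := Algebra.ofId _ _
  exact ⟨(((Ideal.quotientEquivAlgOfEq Γ(X, U) hker.symm).trans
    (Ideal.quotientKerAlgEquivOfSurjective (f := ψ) hsur)).toLinearEquiv.toModuleIso :
      ModuleCat.of Γ(X, U) (Γ(X, U) ⧸ Ideal.ofList rs) ≅ ModuleCat.of Γ(X, U) Γ(Z, i ⁻¹ᵁ U)) ≪≫
    (DRingTorDescent.resBIso (A := Γ(X, U)) Γ(Z, i ⁻¹ᵁ U)).symm⟩

/-- A finite projective model on an affine open. -/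
theorem exists_model [IsClosedImmersion i] {U : X.Opens} (hU : IsAffineOpen U) {rs : List Γ(X, U)}
    (hs : LCI.IsKoszulRegularSeq Γ(X, U) rs) (hker : RingHom.ker (i.app U).hom = Ideal.ofList rs) :
    ∃ E : CochainComplex (Spec Γ(X, U)).Modules ℤ, DCoh.VanishesOutside E (-(rs.length : ℤ)) 0 ∧
      (∀ n, FlatMod.IsFinLocFree (E.X n)) ∧
      Nonempty (DerivedCategory.Q.obj E ≅
        (rho hU.fromSpec).obj (DCoh.inD X ((Scheme.Modules.pushforward i).obj (Coh.structureModule Z)))) := by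
  obtain ⟨K, hz, hf, ⟨e⟩⟩ := exists_finProj_model rs hs
  obtain ⟨c⟩ := module_iso_of_ker i hU (restrict_closed i U) hker
  exact ⟨((tilde.functor Γ(X, U)).mapHomologicalComplex (ComplexShape.up ℤ)).obj K,
    fun n hn => (tilde.functor Γ(X, U)).map_isZero (hz n hn), fun n => (Groth.Agent.S12451.result _).2 (hf n),
    ⟨(toDTildeIso K).symm ≪≫ (DCoh.tildeD Γ(X, U)).mapIso (e ≪≫
      (DerivedCategory.singleFunctor (ModuleCat.{u} Γ(X, U)) 0).mapIso c) ≪≫ (pushUnitAffineIso i hU).symm⟩⟩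

/-- A Koszul regular closed immersion has perfect direct image. -/
theorem isPerfect_push [IsClosedImmersion i] (hi : RegImm.IsRegularImmersion RegImm.Kind.koszul i) :
    DCoh.IsPerfect (DCoh.inD X ((Scheme.Modules.pushforward i).obj (Coh.structureModule Z))) := by
  refine (isPerfect_iff _).2 fun y => ?_
  by_cases hy : y ∈ Set.range i.base
  · obtain ⟨z, rfl⟩ := hy
    obtain ⟨⟨U, hU⟩, hz, -, rs, hs, hker⟩ := hi.2 z
    obtain ⟨E, hv, hf, he⟩ := exists_model i hU hs hker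
    exact ⟨_, hU.fromSpec, inferInstance, by rw [hU.range_fromSpec]; exact hz, E, ⟨⟨_, _, hv⟩, hf⟩, he⟩
  · let W : X.Opens := ⟨(Set.range i.base)ᶜ, i.isClosedEmbedding.isClosed_range.isOpen_compl⟩
    refine ⟨_, W.ι, inferInstance, ⟨⟨y, hy⟩, rfl⟩, (HomologicalComplex.single _ (ComplexShape.up ℤ) 0).obj
      ((((Scheme.Modules.pushforward i).obj (Coh.structureModule Z))).restrict W.ι), ⟨⟨0, 0, fun n hn =>
        HomologicalComplex.isZero_single_obj_X (ComplexShape.up ℤ) 0 _ n (by omega)⟩, fun n => ?_⟩,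
      ⟨((DerivedCategory.singleFunctorIsoCompQ _ 0).app _).symm ≪≫ (rhoSingle W.ι _).symm⟩⟩
    have hM := isZero_restrict_push i W (fun _ h => h) (Coh.structureModule Z)
    refine isFinLocFree_of_isZero ?_
    rcases eq_or_ne n 0 with rfl | hn
    · exact hM.of_iso (HomologicalComplex.singleObjXSelf _ _ _)
    · exact HomologicalComplex.isZero_single_obj_X (ComplexShape.up ℤ) 0 _ n hn

/-- A presentation with no variables. -/
noncomputable def pres0 {U : X.Opens} :
    CommRingCat.of (MvPolynomial (Fin 0) Γ(X, U)) ⟶ Γ(Z, i ⁻¹ᵁ U) :=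
  CommRingCat.ofHom (MvPolynomial.eval₂Hom (i.app U).hom Fin.elim0)

/-- A Koszul regular immersion is pseudo-coherent to every degree. -/
theorem isNPseudoCoherent_koszul [LocallyOfFiniteType i]
    (hi : ∀ z : Z, RegImm.IsRegularImmersionAt RegImm.Kind.koszul i z) (m : ℤ) :
    DerSch.IsNPseudoCoherent i m := by
  refine isNPseudoCoherent_iff.2 (isPseudoCoherentRel_of_locally fun z => ?_)
  obtain ⟨⟨U, hU⟩, hz, hci, rs, hs, hker⟩ := hi z
  obtain ⟨hW, hsur⟩ := isClosedImmersion_spec_app i hU hci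
  have hC : ∀ r, pres0 i (U := U) (MvPolynomial.C r) = i.app U r := fun r => by simp [pres0]
  have hsur' : Function.Surjective (pres0 i (U := U)) := surjective_of_comp_eq hC hsur
  have hφ : IsPres i (i ⁻¹ᵁ U) U (pres0 i) := ⟨le_rfl, hsur', fun r => by
    rw [hC, Scheme.Hom.app_eq_appLE]⟩
  refine ⟨i ⁻¹ᵁ U, U, hz, hU, hW, 0, _, hφ, (immPC_unit_iff hW _ hsur').2 ?_⟩
  obtain ⟨K, hz', hf, ⟨e⟩⟩ := exists_finProj_model rs hs
  obtain ⟨c⟩ := module_iso_of_ker i hU hci hker
  have hperf : DRing.IsPerfect (Γ(X, U) : Type u) (Dual.inD (Γ(X, U) : Type u)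
      ((ModuleCat.restrictScalars (i.app U).hom).obj (ModuleCat.of Γ(Z, i ⁻¹ᵁ U) Γ(Z, i ⁻¹ᵁ U)))) :=
    ⟨K, _, _, hz', hf, ⟨e ≪≫ (DerivedCategory.singleFunctor (ModuleCat.{u} Γ(X, U)) 0).mapIso c⟩⟩
  have hpc : DRingRelPC.PCHom (i.app U).hom := ((DRingPerfect.isPerfect_iff _).1 hperf).1
  let ε := MvPolynomial.isEmptyRingEquiv Γ(X, U) (Fin 0)
  have hcomp : (pres0 i (U := U)).hom = (i.app U).hom.comp ε.toRingHom :=
    MvPolynomial.ringHom_ext (fun r => by
      rw [hC, RingHom.comp_apply]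
      congr 1
      simp [ε]
      exact (MvPolynomial.coeff_zero_C r).symm) fun j => Fin.elim0 j
  have h := (DRingPC.pc'_iff _).1 ((DRingRelPC.PCHom.of_bijective (φ := ε.toRingHom) ε.bijective).comp hpc) m
  rw [hcomp]
  exact h

/-- Tor amplitude of a Koszul regular immersion of given codimension. -/
theorem torDimLE_koszul {d : ℕ} (hi : ∀ z : Z, ∃ U : X.affineOpens, i z ∈ U.1 ∧ IsClosedImmersion (i ∣_ U.1) ∧
      ∃ rs : List Γ(X, U.1), rs.length = d ∧ LCI.IsKoszulRegularSeq Γ(X, U.1) rs ∧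
        RingHom.ker (i.app U.1).hom = Ideal.ofList rs) :
    DerSch.HasTorDimLE i d := by
  intro z
  obtain ⟨⟨U, hU⟩, hz, hci, rs, hd, hs, hker⟩ := hi z
  obtain ⟨K, hz', hf, ⟨e⟩⟩ := exists_finProj_model rs hs
  obtain ⟨c⟩ := module_iso_of_ker i hU hci hker
  let g := i.app U
  obtain ⟨hW, hsur⟩ := isClosedImmersion_spec_app i hU hci
  haveI := IsClosedImmersion.spec_of_surjective g hsur
  let M := Coh.structureModule (Spec Γ(Z, i ⁻¹ᵁ U))
  have hamp : DerSch.HasTorAmplitude (Spec.map g) (-(d : ℤ)) 0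
      (DerSch.unitCx (Spec Γ(Z, i ⁻¹ᵁ U))) := by
    refine torAmplitude_of_push (Spec.map g) ⟨((tilde.functor Γ(X, U)).mapHomologicalComplex (ComplexShape.up ℤ)).obj K,
      fun n hn => (tilde.functor Γ(X, U)).map_isZero (hz' n (by rwa [hd])),
      fun n => isFlat_of_isFinLocFree ((Groth.Agent.S12451.result _).2 (hf n)), ⟨?_⟩⟩
    exact (toDTildeIso K).symm ≪≫ (DCoh.tildeD Γ(X, U)).mapIso (e ≪≫
        (DerivedCategory.singleFunctor (ModuleCat.{u} Γ(X, U)) 0).mapIso c) ≪≫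
      (((tilde.functor Γ(X, U)).mapDerivedCategorySingleFunctor 0).app _) ≪≫
      (DerivedCategory.singleFunctor _ 0).mapIso (tildeRestrictSelfIso g) ≪≫
      (DerivedCategory.singleFunctorIsoCompQ _ 0).app _ ≪≫
      DerivedCategory.Q.mapIso ((HomologicalComplex.singleMapHomologicalComplex
        (Scheme.Modules.pushforward (Spec.map g)) (ComplexShape.up ℤ) 0).app M).symm
  obtain ⟨w, hw⟩ : ∃ w, hW.fromSpec.base w = z := by
    have : z ∈ Set.range hW.fromSpec.base := by rw [hW.range_fromSpec]; exact hz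
    exact this
  subst hw
  have hsq : Spec.map g ≫ hU.fromSpec = hW.fromSpec ≫ i := by
    rw [← IsAffineOpen.SpecMap_appLE_fromSpec i hU hW le_rfl]
    simp [g, Scheme.Hom.app_eq_appLE]
  refine (torAmplitudeAt_restrict_iff hW.fromSpec i _ _ (DerSch.unitCx Z) w).1 ?_
  refine torAmplitudeAt_congr_hom hsq (torAmplitudeAt_congr _ ?_
    (torAmplitudeAt_comp_flat (g := hU.fromSpec) (hamp w)))
  exact (DerivedCategory.Q.mapIso ((HomologicalComplex.singleMapHomologicalComplex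
    (Scheme.Modules.restrictFunctor hW.fromSpec) (ComplexShape.up ℤ) 0).app _ ≪≫
    (HomologicalComplex.single _ (ComplexShape.up ℤ) 0).mapIso (restrictStructureIso hW.fromSpec))).symm

end Groth.Agent.KSix54
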